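import Groth.Prelude.Def_CGrpSh
import Groth.Agent.Lib.Cube.AbScheme
import Groth.Agent.Lib.Rigidity.Relative.AbScheme
import Groth.Agent.Lib.DiagGrp.KernelFP
import Groth.Agent.Lib.GrpdQuot.QuotSheaf

/-!
# The sheaf of points of an abelian scheme is divisible
-/

set_option autoImplicit false

universe u

open CategoryTheory CategoryTheory.Limits AlgebraicGeometry Opposite
open MonoidalCategory CartesianMonoidalCategory MonObj

namespace GrothLib.AbSchDiv15

variable {S : Scheme.{u}}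

theorem exists_cover_lift {A B : Over S} (q : A ⟶ B) [Flat q.left] [LocallyOfFinitePresentation q.left]
    [Surjective q.left] {T : Over S} (y : T ⟶ B) :
    ∃ R ∈ QuotSh.J Scheme.fppfPrecoverage S T, ∀ ⦃U : Over S⦄ (f : U ⟶ T), R f → ∃ x : U ⟶ A, x ≫ q = f ≫ y := by
  have hcov : Sieve.generate (Presieve.singleton q) ∈ QuotSh.J Scheme.fppfPrecoverage S B := by
    rw [GrothendieckTopology.mem_over_iff]
    refine GrothendieckTopology.superset_covering _ ?_
      (Precoverage.generate_mem_toGrothendieck (GrothLib.GrpdQuot.singleton_mem_fppf q.left))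
    rw [Sieve.generate_le_iff]
    rintro Z f ⟨⟩
    rw [Sieve.overEquiv_generate]
    exact ⟨_, 𝟙 _, q.left, ⟨A, q, 𝟙 _, ⟨⟩, (Category.id_comp _).symm⟩, Category.id_comp _⟩
  refine ⟨_, GrothendieckTopology.pullback_stable _ y hcov, ?_⟩
  rintro U f ⟨W, a, b, ⟨⟩, hab⟩
  exact ⟨a, hab⟩

variable (A : Over S) [GrpObj A] [IsCommMonObj A] [Smooth A.hom] [IsProper A.hom]

theorem isLocallySurjective_nsmul (hA : ∀ s : S, ConnectedSpace ↥(A.hom.fiber s)) {n : ℕ} (hn : n ≠ 0) :
    Sheaf.IsLocallySurjective (n • 𝟙 (CGrpSh.pts Scheme.fppfPrecoverage A) :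
      CGrpSh.pts Scheme.fppfPrecoverage A ⟶ CGrpSh.pts Scheme.fppfPrecoverage A) := by
  have := GrothLib.Rigidity.geometricallyConnected_of_connected_fibers A hA
  have := GrothLib.Rigidity.geometricallyReduced_of_smooth' A.hom
  obtain ⟨-, hflat, hsurj⟩ := GrothLib.Cube.isogeny_pow_relative A hn
  have : LocallyOfFinitePresentation ((𝟙 A : A ⟶ A) ^ n).left :=
    GrothLib.DiagGrp.lfp_of_comp_of_lft _ A.hom (by rw [Over.w]; infer_instance) inferInstance
  refine ⟨fun {T} y => ?_⟩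
  let T' : Over S := T
  let y' : T' ⟶ A := Additive.toMul (ULift.down y)
  obtain ⟨R, hR, hlift⟩ := exists_cover_lift ((𝟙 A : A ⟶ A) ^ n) y'
  refine GrothendieckTopology.superset_covering _ ?_ hR
  intro U f hf
  obtain ⟨x, hx⟩ := hlift f hf
  refine ⟨ULift.up (Additive.ofMul x), ?_⟩
  refine (map_nsmul (AddMonoidHom.mk'
    (fun g : CGrpSh.pts Scheme.fppfPrecoverage A ⟶ CGrpSh.pts Scheme.fppfPrecoverage A =>
      g.hom.app (op U) (ULift.up (Additive.ofMul x))) fun _ _ => rfl) n (𝟙 _)).trans ?_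
  apply ULift.ext
  change Additive.ofMul (x ^ n) = Additive.ofMul (f ≫ y')
  rw [← hx, MonObj.comp_pow, Category.comp_id]

theorem epi_zsmul (hA : ∀ s : S, ConnectedSpace ↥(A.hom.fiber s)) (n : ℤ) (hn : n ≠ 0) :
    Epi (n • 𝟙 (CGrpSh.pts Scheme.fppfPrecoverage A)) := by
  have h : Epi (n.natAbs • 𝟙 (CGrpSh.pts Scheme.fppfPrecoverage A)) :=
    (Sheaf.isLocallySurjective_iff_epi' _ _).1 (isLocallySurjective_nsmul A hA (Int.natAbs_ne_zero.2 hn))
  rcases Int.natAbs_eq n with e | e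
  · rw [e, natCast_zsmul]
    exact h
  · rw [e, neg_zsmul, natCast_zsmul]
    haveI := h
    infer_instance

theorem eq_zero_of_zsmul_eq_zero (hA : ∀ s : S, ConnectedSpace ↥(A.hom.fiber s))
    {F : BigSite.Ab Scheme.fppfPrecoverage S} (φ : CGrpSh.pts Scheme.fppfPrecoverage A ⟶ F) (n : ℤ) (hn : n ≠ 0)
    (h : n • φ = 0) : φ = 0 := by
  haveI := epi_zsmul A hA n hn
  rw [← cancel_epi (n • 𝟙 (CGrpSh.pts Scheme.fppfPrecoverage A)), comp_zero, Preadditive.zsmul_comp,
    Category.id_comp, h]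

end GrothLib.AbSchDiv15
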